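import Groth.Agent.TateLoc.K146.FinStable
import Groth.Agent.TateLoc.K798.CharFG
import Groth.Agent.GmDual.K789.GChar
import Mathlib.RingTheory.Coalgebra.GroupLike

/-!
# Sections of the dual sheaf over fields

`H` a commutative Hopf algebra of finite type over a field `k`, `Dl k H` the dual sheaf of `Spec H`.
* `isGroupLike_of_isChar`: characters `w ∈ B ⊗ H` are group-like over `B`.
* `ch L : F(L) →+ Additive (GroupLike L (L ⊗ H))` injective; `finite_sections`: `F(L)` is finitely generated.
* `exists_stable`: there is a finite extension `L₀` with `F(L₀) → F(L)` onto for all finite extensions `L` of `L₀`.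
-/

set_option autoImplicit false
universe u
open CategoryTheory CategoryTheory.Limits MonoidalCategory CartesianMonoidalCategory MonObj GrpObj AlgebraicGeometry Opposite

noncomputable section

namespace K146.CharFin

open Groth.Agent.Books.AffBridge Groth.Agent.Etdl.H432.Sec K771.HomEv K771.Pts K771.Aff WithConv TensorProduct
open K778.CharDict (Bs)
open K789.DDAlg K789.GPts K789.GChar K146.FinStable K447.GalCls

section alg

variable {k : Type u} [CommRing k] {H : Type u} [CommRing H] [HopfAlgebra k H]
variable {B : Type u} [CommRing B] [Algebra k B]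

/-- Characters are group-like. -/
theorem isGroupLike_of_isChar {w : B ⊗[k] H} (hw : IsChar w) : IsGroupLikeElem B w where
  counit_eq_one := by
    have h1 := hw.1 B (AlgHom.id k B)
    refine Eq.trans ?_ h1
    clear hw h1
    induction w using TensorProduct.induction_on with
    | zero => simp
    | add s t hs ht => rw [map_add, map_add, hs, ht]
    | tmul b h =>
      change (Coalgebra.counit (R := k) h) • b = b * algebraMap k B (Coalgebra.counit (R := k) h)
      rw [Algebra.smul_def, _root_.mul_comm]
  comul_eq_tmul_self := by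
    let C : Type u := (B ⊗[k] H) ⊗[B] (B ⊗[k] H)
    let ρ : B →ₐ[k] C := (Algebra.ofId B C).restrictScalars k
    let x : H →ₐ[k] C := ((Algebra.TensorProduct.includeLeft :
      (B ⊗[k] H) →ₐ[B] (B ⊗[k] H) ⊗[B] (B ⊗[k] H)).restrictScalars k).comp Algebra.TensorProduct.includeRight
    let y : H →ₐ[k] C := ((Algebra.TensorProduct.includeRight :
      (B ⊗[k] H) →ₐ[B] (B ⊗[k] H) ⊗[B] (B ⊗[k] H)).restrictScalars k).comp Algebra.TensorProduct.includeRight
    have h1 := hw.2 C ρ (toConv x) (toConv y)
    have hρ : ∀ b : B, ρ b = (b ⊗ₜ[k] (1 : H)) ⊗ₜ[B] ((1 : B) ⊗ₜ[k] (1 : H)) := fun b => by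
      change algebraMap B C b = _
      rw [Algebra.TensorProduct.algebraMap_apply, Algebra.TensorProduct.algebraMap_apply]
      rfl
    have hx : ∀ h : H, x h = ((1 : B) ⊗ₜ[k] h) ⊗ₜ[B] ((1 : B) ⊗ₜ[k] (1 : H)) := fun h => rfl
    have hy : ∀ h : H, y h = ((1 : B) ⊗ₜ[k] (1 : H)) ⊗ₜ[B] ((1 : B) ⊗ₜ[k] h) := fun h => rfl
    have e1 : ∀ w : B ⊗[k] H, evl ρ (toConv x * toConv y).ofConv.toLinearMap w = Coalgebra.comul (R := B) w := by
      intro w
      induction w using TensorProduct.induction_on with
      | zero => rw [map_zero, map_zero]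
      | add s t hs ht => rw [map_add, map_add, hs, ht]
      | tmul b h =>
        rw [evl_tmul, TensorProduct.comul_tmul]
        have h3 : (toConv x * toConv y).ofConv.toLinearMap h =
            LinearMap.mul' k C (TensorProduct.map x.toLinearMap y.toLinearMap (Coalgebra.comul (R := k) h)) := rfl
        rw [h3]
        have h4 : ∀ t : H ⊗[k] H, ρ b * LinearMap.mul' k C (TensorProduct.map x.toLinearMap y.toLinearMap t) =
            AlgebraTensorModule.tensorTensorTensorComm k B k B B B H H ((Coalgebra.comul (R := B) b) ⊗ₜ[k] t) := by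
          intro t
          induction t using TensorProduct.induction_on with
          | zero => rw [map_zero, map_zero, MulZeroClass.mul_zero, TensorProduct.tmul_zero, map_zero]
          | add s t hs ht => rw [map_add, map_add, _root_.mul_add, hs, ht, TensorProduct.tmul_add, map_add]
          | tmul c d =>
            have h5 : (Coalgebra.comul (R := B) b : B ⊗[B] B) = b ⊗ₜ[B] (1 : B) := (CommSemiring.comul_apply B b).trans (by rw [← _root_.mul_one b, ← smul_eq_mul, ← TensorProduct.smul_tmul, smul_eq_mul, _root_.mul_one])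
            rw [h5, TensorProduct.map_tmul, LinearMap.mul'_apply]
            change ρ b * (x c * y d) = (b ⊗ₜ[k] c) ⊗ₜ[B] ((1 : B) ⊗ₜ[k] d)
            rw [hρ, hx, hy]
            simp only [C, Algebra.TensorProduct.tmul_mul_tmul, _root_.one_mul, _root_.mul_one]
        exact h4 _
    have e2 : ∀ w : B ⊗[k] H, evl ρ x.toLinearMap w = w ⊗ₜ[B] (1 : B ⊗[k] H) := by
      intro w
      induction w using TensorProduct.induction_on with
      | zero => rw [map_zero, TensorProduct.zero_tmul]
      | add s t hs ht => rw [map_add, hs, ht, TensorProduct.add_tmul]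
      | tmul b h =>
        rw [evl_tmul]
        change ρ b * x h = _
        rw [hρ, hx]
        simp only [C, Algebra.TensorProduct.tmul_mul_tmul, _root_.one_mul, _root_.mul_one]
        rfl
    have e3 : ∀ w : B ⊗[k] H, evl ρ y.toLinearMap w = (1 : B ⊗[k] H) ⊗ₜ[B] w := by
      intro w
      induction w using TensorProduct.induction_on with
      | zero => rw [map_zero, TensorProduct.tmul_zero]
      | add s t hs ht => rw [map_add, hs, ht, TensorProduct.tmul_add]
      | tmul b h =>
        rw [evl_tmul]
        change ρ b * y h = _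
        rw [hρ, hy]
        simp only [C, Algebra.TensorProduct.tmul_mul_tmul, _root_.one_mul, _root_.mul_one]
        have h6 : (b ⊗ₜ[k] (1 : H)) = b • (1 : B ⊗[k] H) := by
          rw [Algebra.TensorProduct.one_def, TensorProduct.smul_tmul', smul_eq_mul, _root_.mul_one]
        rw [h6, TensorProduct.smul_tmul, TensorProduct.smul_tmul', smul_eq_mul, _root_.mul_one]
    rw [e1] at h1
    have e2' : evl ρ (toConv x).ofConv.toLinearMap w = w ⊗ₜ[B] (1 : B ⊗[k] H) := e2 w
    have e3' : evl ρ (toConv y).ofConv.toLinearMap w = (1 : B ⊗[k] H) ⊗ₜ[B] w := e3 w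
    rw [e2', e3'] at h1
    rw [h1]
    simp only [C, Algebra.TensorProduct.tmul_mul_tmul, _root_.one_mul, _root_.mul_one]

end alg

section fields

attribute [local instance] algO

variable {k : Type u} [Field k] {H : Type u} [CommRing H] [HopfAlgebra k H] [IsCommMonObj (SpecOver k H)]

instance isAffine_TL (L : Type u) [Field L] [Algebra k L] : IsAffine (TL k L).left :=
  inferInstanceAs (IsAffine (Spec (CommRingCat.of L)))

/-- The functions on `Spec L`. -/
def iL (k L : Type u) [Field k] [Field L] [Algebra k L] : L →ₐ[k] O (TL k L) := fnl (𝟙 (SpecOver k L))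

theorem iL_bijective (L : Type u) [Field L] [Algebra k L] : Function.Bijective (iL k L) := by
  have h1 : ∀ x : L, iL k L x = (Scheme.ΓSpecIso (CommRingCat.of L)).inv.hom x := by
    intro x
    change fnl (𝟙 (SpecOver k L)) x = _
    rw [fnl_apply]
    change (𝟙 (SpecOver k L).left : (SpecOver k L).left ⟶ (SpecOver k L).left).appTop.hom _ = _
    rw [Scheme.Hom.id_appTop]
    rfl
  have h2 : Function.Bijective ((Scheme.ΓSpecIso (CommRingCat.of L)).inv.hom) :=
    (Scheme.ΓSpecIso (CommRingCat.of L)).symm.commRingCatIsoToRingEquiv.bijective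
  exact ⟨fun x y h => h2.1 (by rw [← h1, ← h1, h]), fun y => by
    obtain ⟨x, hx⟩ := h2.2 y
    exact ⟨x, (h1 x).trans hx⟩⟩

/-- The functions on `Spec L`. -/
def eL (k L : Type u) [Field k] [Field L] [Algebra k L] : L ≃ₐ[k] O (TL k L) :=
  AlgEquiv.ofBijective (iL k L) (iL_bijective L)

theorem roA_sgm {L L' : Type u} [Field L] [Algebra k L] [Field L'] [Algebra k L'] (j : L →ₐ[k] L') :
    (roA (sgm j)).comp (iL k L) = (iL k L').comp j := by
  have h1 : (roA (sgm j)).comp (iL k L) = fnl (specMap k j ≫ 𝟙 (SpecOver k L)) := (fnl_comp (sgm j) (𝟙 _)).symm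
  have h2 : (iL k L').comp j = fnl (𝟙 (SpecOver k L') ≫ specMap k j) := (fnl_specMap (𝟙 _) j).symm
  rw [h1, h2, Category.comp_id, Category.id_comp]

/-- The character of a section over a field. -/
def ch (L : Type u) [Field L] [Algebra k L] (φ : Γs (Dl k H) (TL k L)) : L ⊗[k] H :=
  mp ((eL k L).symm : O (TL k L) →ₐ[k] L) (poly φ)

theorem isChar_ch {L : Type u} [Field L] [Algebra k L] (φ : Γs (Dl k H) (TL k L)) : IsChar (ch L φ) :=
  (isChar_poly φ).map _

omit [IsCommMonObj (SpecOver k H)] in
theorem mp_injective {A B : Type u} [CommRing A] [Algebra k A] [CommRing B] [Algebra k B] (f : A →ₐ[k] B)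
    (hf : Function.Injective f) : Function.Injective (mp (H := H) f) :=
  Module.Flat.rTensor_preserves_injective_linearMap (M := H) f.toLinearMap hf

theorem ch_injective {L : Type u} [Field L] [Algebra k L] :
    Function.Injective (ch L : Γs (Dl k H) (TL k L) → L ⊗[k] H) :=
  (mp_injective _ (eL k L).symm.injective).comp poly_injective

theorem ch_zero {L : Type u} [Field L] [Algebra k L] : ch L (0 : Γs (Dl k H) (TL k L)) = 1 := by
  rw [ch, poly_zero, map_one]

theorem ch_add {L : Type u} [Field L] [Algebra k L] (φ ψ : Γs (Dl k H) (TL k L)) :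
    ch L (φ + ψ) = ch L φ * ch L ψ := by
  rw [ch, poly_add, map_mul]
  rfl

theorem ch_r {L L' : Type u} [Field L] [Algebra k L] [Field L'] [Algebra k L'] (j : L →ₐ[k] L')
    (φ : Γs (Dl k H) (TL k L)) : ch L' (r (Dl k H) (sgm j) φ) = mp j (ch L φ) := by
  rw [ch, poly_r, ch]
  have h1 : (((eL k L').symm : O (TL k L') →ₐ[k] L').comp (roA (sgm j))) =
      j.comp ((eL k L).symm : O (TL k L) →ₐ[k] L) := by
    ext x
    obtain ⟨y, rfl⟩ := (eL k L).surjective x
    have h2 := DFunLike.congr_fun (roA_sgm j) y
    change (eL k L').symm (roA (sgm j) (iL k L y)) = j ((eL k L).symm (eL k L y))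
    rw [AlgEquiv.symm_apply_apply]
    refine (congrArg (eL k L').symm h2).trans ?_
    exact (eL k L').symm_apply_apply (j y)
  have h3 : ∀ {A B C : Type u} [CommRing A] [Algebra k A] [CommRing B] [Algebra k B] [CommRing C] [Algebra k C]
      (f : A →ₐ[k] B) (g : B →ₐ[k] C) (w : A ⊗[k] H), mp g (mp f w) = mp (g.comp f) w := by
    intro A B C _ _ _ _ _ _ f g w
    induction w using TensorProduct.induction_on with
    | zero => rw [map_zero, map_zero, map_zero]
    | add s t hs ht => rw [map_add, map_add, map_add, hs, ht]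
    | tmul a b => rfl
  rw [h3, h3, h1]

theorem r_injective {L L' : Type u} [Field L] [Algebra k L] [Field L'] [Algebra k L'] (j : L →ₐ[k] L') :
    Function.Injective (r (Dl k H) (sgm j)) := by
  intro φ ψ h
  apply ch_injective
  apply mp_injective j j.toRingHom.injective
  rw [← ch_r, ← ch_r, h]

/-- Sections over `Spec L` are group-like elements. -/
def gl (L : Type u) [Field L] [Algebra k L] : Γs (Dl k H) (TL k L) →+ Additive (GroupLike L (L ⊗[k] H)) :=
  AddMonoidHom.mk' (fun φ => Additive.ofMul ⟨ch L φ, isGroupLike_of_isChar (isChar_ch φ)⟩) (by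
    intro φ ψ
    exact congrArg Additive.ofMul (GroupLike.ext (ch_add φ ψ)))

theorem gl_injective {L : Type u} [Field L] [Algebra k L] :
    Function.Injective (gl (k := k) (H := H) L) := by
  intro φ ψ h
  exact ch_injective (congrArg GroupLike.val (congrArg Additive.toMul h))

/-- The sections of the dual sheaf over a field are finitely generated. -/
theorem finite_sections [Algebra.FiniteType k H] (L : Type u) [Field L] [Algebra k L] :
    Module.Finite ℤ (Γs (Dl k H) (TL k L)) := by
  have h1 : Group.FG (GroupLike L (L ⊗[k] H)) := Groth.Agent.TateLoc.K798.CharFG.fg_groupLike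
  have h2 : Module.Finite ℤ (Additive (GroupLike L (L ⊗[k] H))) := by
    have : AddGroup.FG (Additive (GroupLike L (L ⊗[k] H))) := inferInstance
    exact Module.Finite.iff_addGroup_fg.2 this
  exact Module.Finite.of_injective (gl (k := k) (H := H) L).toIntLinearMap (gl_injective (k := k) (H := H))

/-- The sections of the dual sheaf stabilize at a finite extension. -/
theorem exists_stable [Algebra.FiniteType k H] : ∃ (L₀ : Type u) (_ : Field L₀) (_ : Algebra k L₀)
    (_ : FiniteDimensional k L₀), ∀ (L : Type u) [Field L] [Algebra k L] [FiniteDimensional k L] (j : L₀ →ₐ[k] L),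
      Function.Surjective (r (Dl k H) (sgm j)) := by
  let Ω := AlgebraicClosure k
  let M := Γs (Dl k H) (TL k Ω)
  have hM : Module.Finite ℤ M := finite_sections Ω
  let rl : ∀ {L : Type u} [Field L] [Algebra k L] (_ : L →ₐ[k] Ω), Γs (Dl k H) (TL k L) →ₗ[ℤ] M :=
    fun i => (r (Dl k H) (sgm i)).toIntLinearMap
  let 𝒮 : Set (Submodule ℤ M) := {N | ∃ (L : Type u) (_ : Field L) (_ : Algebra k L) (_ : FiniteDimensional k L)
    (i : L →ₐ[k] Ω), N = LinearMap.range (rl i)}
  have hne : 𝒮.Nonempty := ⟨_, k, inferInstance, inferInstance, inferInstance, Algebra.ofId k Ω, rfl⟩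
  have hN : IsNoetherian ℤ M := inferInstance
  obtain ⟨N, ⟨L₀, _, _, _, i₀, rfl⟩, hmax⟩ := set_has_maximal_iff_noetherian.mpr hN 𝒮 hne
  refine ⟨L₀, inferInstance, inferInstance, inferInstance, fun L _ _ _ j => ?_⟩
  have hex : ∃ i : L →ₐ[k] Ω, i.comp j = i₀ := by
    let _ : Algebra L₀ Ω := i₀.toRingHom.toAlgebra
    let _ : Algebra L₀ L := j.toRingHom.toAlgebra
    have t1 : IsScalarTower k L₀ Ω := IsScalarTower.of_algebraMap_eq fun x => (i₀.commutes x).symm
    have t2 : IsScalarTower k L₀ L := IsScalarTower.of_algebraMap_eq fun x => (j.commutes x).symm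
    have : FiniteDimensional L₀ L := Module.Finite.right k L₀ L
    let i : L →ₐ[L₀] Ω := IsAlgClosed.lift
    refine ⟨i.restrictScalars k, ?_⟩
    ext x
    exact i.commutes x
  obtain ⟨i, hi⟩ := hex
  have hcomp : ∀ m, r (Dl k H) (sgm i₀) m = r (Dl k H) (sgm i) (r (Dl k H) (sgm j) m) := by
    intro m
    have h1 : sgm i ≫ sgm j = sgm i₀ := by rw [sgm_comp, hi]
    rw [← h1]
    exact congrArg (fun f => f.hom m) ((Dl k H).obj.map_comp (sgm j).op (sgm i).op)
  have hle : LinearMap.range (rl i₀) ≤ LinearMap.range (rl i) := by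
    rintro _ ⟨m, rfl⟩
    exact ⟨_, (hcomp m).symm⟩
  have heq : LinearMap.range (rl i) ≤ LinearMap.range (rl i₀) := by
    by_contra hcon
    exact hmax _ ⟨L, inferInstance, inferInstance, inferInstance, i, rfl⟩ (lt_of_le_not_ge hle hcon)
  intro m
  obtain ⟨m₀, hm₀⟩ := heq ⟨m, rfl⟩
  exact ⟨m₀, r_injective i (((hcomp m₀).symm.trans hm₀))⟩

/-- **`H¹(κ, Ĝ)` is finite** for `κ` a finite field, `G = Spec H`. -/
theorem finite_H_one [Finite k] [Algebra.FiniteType k H] :
    Finite (BigSite.H Scheme.fppfPrecoverage (Spec (CommRingCat.of k)) (Dl k H) 1) := by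
  obtain ⟨L₀, _, _, _, h⟩ := exists_stable (k := k) (H := H)
  exact finite_H_one_of_stable (Dl k H) L₀ (finite_sections L₀) (fun L _ _ _ j => h L j)

end fields

end K146.CharFin
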