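import Groth.Agent.TateLoc.K447.FinField
import Mathlib.GroupTheory.FiniteAbelian.Basic

/-!
# `H¹_fppf(κ, F)` over a finite field, when `F(L)` is finitely generated and stabilizes

* `card_le_torsion`: counting modulo `φ - 1` in a finitely generated group.
* `finite_H_one_of_stable`: `κ` finite, `L₀/κ` finite, `F(L₀)` finitely generated and `F(L₀) → F(L)` onto for every
  finite extension `L` of `L₀`: then `H¹_fppf(κ, F)` is finite.
-/

set_option autoImplicit false
universe v u

open CategoryTheory CategoryTheory.Limits AlgebraicGeometry Opposite TensorProduct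
open K828 K827.H1 K447.GalCls K447.FinField

namespace K146.FinStable

/-- Counting modulo the image of `D`. -/
theorem card_le_torsion {M₀ M : Type*} [AddCommGroup M₀] [AddCommGroup M] (D₀ : M₀ →+ M₀)
    [Finite (AddCommGroup.torsion (M₀ ⧸ D₀.range))] (D : M →+ M) (ρ : M₀ →+ M) (hρ : Function.Surjective ρ)
    (hρi : Function.Injective ρ)
    (hD : ∀ m, ρ (D₀ m) = D (ρ m)) {ι : Type*} (g : ι → M) (hg : ∀ i, ∃ n : ℕ, 0 < n ∧ n • g i ∈ D.range)
    (hinj : ∀ i j, g i - g j ∈ D.range → i = j) :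
    Nat.card ι ≤ Nat.card (AddCommGroup.torsion (M₀ ⧸ D₀.range)) := by
  choose g' hg' using fun i => hρ (g i)
  have hr : ∀ m, ρ m ∈ D.range → m ∈ D₀.range := by
    rintro m ⟨x, hx⟩
    obtain ⟨y, rfl⟩ := hρ x
    rw [← hD] at hx
    exact ⟨y, hρi hx⟩
  have ht : ∀ i, (QuotientAddGroup.mk (g' i) : M₀ ⧸ D₀.range) ∈ AddCommGroup.torsion (M₀ ⧸ D₀.range) := by
    intro i
    obtain ⟨n, hn, h⟩ := hg i
    change IsOfFinAddOrder _
    rw [isOfFinAddOrder_iff_nsmul_eq_zero]
    refine ⟨n, hn, ?_⟩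
    have h1 : n • (QuotientAddGroup.mk (g' i) : M₀ ⧸ D₀.range) = QuotientAddGroup.mk (n • g' i) := rfl
    rw [h1, QuotientAddGroup.eq_zero_iff]
    apply hr
    rwa [map_nsmul, hg']
  refine Nat.card_le_card_of_injective (fun i => (⟨_, ht i⟩ : AddCommGroup.torsion (M₀ ⧸ D₀.range))) fun i j hij => ?_
  apply hinj
  have h1 : (QuotientAddGroup.mk (g' i) : M₀ ⧸ D₀.range) = QuotientAddGroup.mk (g' j) := congrArg Subtype.val hij
  have h2 := (QuotientAddGroup.eq).mp h1.symm
  obtain ⟨x, hx⟩ := h2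
  refine ⟨ρ x, ?_⟩
  rw [← hD, hx, map_add, map_neg, hg', hg']
  abel

theorem finite_torsion {M : Type*} [AddCommGroup M] [Module.Finite ℤ M] : Finite (AddCommGroup.torsion M) := by
  have h1 : IsNoetherian ℤ M := inferInstance
  let N : Submodule ℤ M := AddSubgroup.toIntSubmodule (AddCommGroup.torsion M)
  have h2 : Module.Finite ℤ N := inferInstance
  refine Module.finite_of_fg_torsion N ?_
  rintro ⟨x, hx⟩
  have hx' : IsOfFinAddOrder x := hx
  obtain ⟨n, hn, h⟩ := isOfFinAddOrder_iff_nsmul_eq_zero.mp hx'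
  refine ⟨⟨(n : ℤ), mem_nonZeroDivisors_of_ne_zero (by exact_mod_cast hn.ne')⟩, Subtype.ext ?_⟩
  change ((n : ℤ) • x : M) = 0
  rw [natCast_zsmul, h]

variable {k : Type u} [Field k]

/-- `Spec` of a homomorphism of extensions. -/
noncomputable def sgm {L L' : Type u} [Field L] [Algebra k L] [Field L'] [Algebra k L'] (j : L →ₐ[k] L') :
    TL k L' ⟶ TL k L :=
  Over.homMk (Spec.map (CommRingCat.ofHom j.toRingHom)) (by
    change Spec.map _ ≫ Spec.map _ = Spec.map _
    rw [← Spec.map_comp, ← CommRingCat.ofHom_comp]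
    congr 2
    ext x
    exact j.commutes x)

theorem sgm_comp {L L' L'' : Type u} [Field L] [Algebra k L] [Field L'] [Algebra k L'] [Field L''] [Algebra k L'']
    (j : L →ₐ[k] L') (j' : L' →ₐ[k] L'') : sgm j' ≫ sgm j = sgm (j'.comp j) := by
  apply Over.OverMorphism.ext
  change Spec.map _ ≫ Spec.map _ = Spec.map _
  rw [← Spec.map_comp, ← CommRingCat.ofHom_comp]
  rfl

theorem sgm_self {L : Type u} [Field L] [Algebra k L] (σ : L →ₐ[k] L) : sgm σ = sg σ := rfl

/-- Two finite extensions are contained in a third one. -/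
theorem exists_common (L₀ L₁ : Type u) [Field L₀] [Algebra k L₀] [FiniteDimensional k L₀] [Field L₁] [Algebra k L₁]
    [FiniteDimensional k L₁] : ∃ (L : Type u) (_ : Field L) (_ : Algebra k L) (_ : FiniteDimensional k L)
      (_ : L₀ →ₐ[k] L) (_ : L₁ →ₐ[k] L), True := by
  obtain ⟨m, hm⟩ := Ideal.exists_maximal (L₀ ⊗[k] L₁)
  let _ : Field (L₀ ⊗[k] L₁ ⧸ m) := Ideal.Quotient.field m
  exact ⟨L₀ ⊗[k] L₁ ⧸ m, inferInstance, inferInstance, inferInstance,
    (Ideal.Quotient.mkₐ k m).comp Algebra.TensorProduct.includeLeft,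
    (Ideal.Quotient.mkₐ k m).comp Algebra.TensorProduct.includeRight, trivial⟩

theorem rs_sgm_injective (F : BigSite.Ab Scheme.fppfPrecoverage (Spec (CommRingCat.of k))) {L L' : Type u} [Field L]
    [Algebra k L] [FiniteDimensional k L] [Field L'] [Algebra k L'] [FiniteDimensional k L'] (j : L →ₐ[k] L') :
    Function.Injective (rs F (sgm j)) := by
  let _ : Algebra L L' := j.toRingHom.toAlgebra
  have : IsScalarTower k L L' := IsScalarTower.of_algebraMap_eq fun r => (j.commutes r).symm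
  have : FiniteDimensional L L' := Module.Finite.right k L L'
  have h1 : Flat (sgm j).left := flat_pL (k := L) L'
  have h2 : LocallyOfFinitePresentation (sgm j).left := lfp_pL (k := L) L'
  intro s t h
  exact K778.DisjSh.ext_of_cover F (fun _ : PUnit.{1} => TL k L') (fun _ => sgm j) (fun y =>
    ⟨PUnit.unit, exists_pt_eq (k := L) L' y⟩) _ _ fun _ => h

/-- Classes dying on a cyclic extension, when the sections are finitely generated over a smaller extension. -/
theorem card_kernel_le {L₀ L : Type u} [Field L₀] [Algebra k L₀] [Field L] [Algebra k L] [FiniteDimensional k L]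
    [IsGalois k L] (φ : Gal(L/k)) (hφ : ∀ σ : Gal(L/k), ∃ i : ℕ, σ = φ ^ i)
    (𝓗 : CohT Scheme.fppfPrecoverage (Spec (CommRingCat.of k)))
    (F : BigSite.Ab Scheme.fppfPrecoverage (Spec (CommRingCat.of k)))
    (j : L₀ →ₐ[k] L) (φ₀ : Gal(L₀/k)) (hj : ∀ x, j (φ₀ x) = φ (j x))
    (hs : Function.Surjective (rs F (sgm j))) (hi : Function.Injective (rs F (sgm j)))
    [Finite (AddCommGroup.torsion (F.obj.obj (op (TL k L₀)) ⧸ (act F φ₀ - AddMonoidHom.id _).range))]
    {ι : Type v} (x : ι → 𝓗.H F 1 (T0 k)) (hx : Function.Injective x)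
    (h0 : ∀ i, 𝓗.res (pL k L) (x i) = 0) : Nat.card ι ≤
      Nat.card (AddCommGroup.torsion (F.obj.obj (op (TL k L₀)) ⧸ (act F φ₀ - AddMonoidHom.id _).range)) := by
  have hc : ∀ i, ∃ c : Pr F (TL k L), IsCls 𝓗 (pL k L) c (x i) := fun i => exists_coc (pL k L) (x i) (h0 i)
  choose c hc using hc
  let D : F.obj.obj (op (TL k L)) →+ F.obj.obj (op (TL k L)) := act F φ - AddMonoidHom.id _
  let n := orderOf φ
  have hD : ∀ m, D m = act F φ m - m := fun m => rfl
  have hpow : ∀ (i : ℕ) (m : F.obj.obj (op (TL k L))), act F (φ ^ i) m - m ∈ D.range := by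
    intro i m
    induction i with
    | zero => rw [pow_zero, act_one, sub_self]; exact D.range.zero_mem
    | succ i ih =>
      have h1 : act F (φ ^ (i + 1)) m - m = D (act F (φ ^ i) m) + (act F (φ ^ i) m - m) := by
        rw [hD, pow_succ', act_mul]
        abel
      rw [h1]
      exact D.range.add_mem ⟨_, rfl⟩ ih
  refine card_le_torsion (act F φ₀ - AddMonoidHom.id _) D (F.obj.map (sgm j).op).hom hs hi (fun m => ?_)
    (fun i => val (c i) φ) (fun i => ?_) (fun i i' hij => ?_)
  · change rs F (sgm j) (act F φ₀ m - m) = D (rs F (sgm j) m)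
    rw [hD]
    have h2 : rs F (sgm j) (act F φ₀ m - m) = rs F (sgm j) (act F φ₀ m) - rs F (sgm j) m :=
      map_sub (F.obj.map (sgm j).op).hom _ _
    rw [h2]
    congr 1
    change rs F (sgm j) (rs F (sg (φ₀ : L₀ →ₐ[k] L₀)) m) = rs F (sg (φ : L →ₐ[k] L)) (rs F (sgm j) m)
    rw [rs_comp, rs_comp, ← sgm_self, ← sgm_self, sgm_comp, sgm_comp]
    congr 2
    ext x
    exact hj x
  · refine ⟨n, orderOf_pos φ, ?_⟩
    have h1 : ∑ l ∈ Finset.range n, act F (φ ^ l) (val (c i) φ) = 0 := by
      rw [← val_pow (hc i).isCoc, pow_orderOf_eq_one, val_one (hc i).isCoc]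
    have h2 : n • val (c i) φ = - ∑ l ∈ Finset.range n, (act F (φ ^ l) (val (c i) φ) - val (c i) φ) := by
      rw [Finset.sum_sub_distrib, h1, Finset.sum_const, Finset.card_range]
      abel
    rw [h2]
    exact D.range.neg_mem (D.range.sum_mem fun l _ => hpow l _)
  · apply hx
    obtain ⟨h, hh⟩ := hij
    rw [← sub_eq_zero]
    refine eq_zero_of_gal (generate_mem L) ((hc i).sub (hc i')) h fun σ => ?_
    obtain ⟨m, rfl⟩ := hφ σ
    change val (c i) (φ ^ m) - val (c i') (φ ^ m) = act F (φ ^ m) h - h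
    rw [val_pow (hc i).isCoc, val_pow (hc i').isCoc, ← Finset.sum_sub_distrib]
    have e2 : ∀ l, act F (φ ^ l) (val (c i) φ) - act F (φ ^ l) (val (c i') φ) =
        act F (φ ^ (l + 1)) h - act F (φ ^ l) h := by
      intro l
      rw [← map_sub, ← hh, hD, map_sub, ← act_mul, ← pow_succ]
    simp only [e2]
    rw [Finset.sum_range_sub (fun l => act F (φ ^ l) h), pow_zero, act_one]

/-- **Finiteness of `H¹_fppf` of a finite field** with finitely generated stable sections. -/
theorem finite_H_one_of_stable [Finite k] (F : BigSite.Ab Scheme.fppfPrecoverage (Spec (CommRingCat.of k)))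
    (L₀ : Type u) [Field L₀] [Algebra k L₀] [FiniteDimensional k L₀]
    (hfg : Module.Finite ℤ (F.obj.obj (op (TL k L₀))))
    (hst : ∀ (L : Type u) [Field L] [Algebra k L] [FiniteDimensional k L] (j : L₀ →ₐ[k] L),
      Function.Surjective (rs F (sgm j))) :
    Finite (BigSite.H Scheme.fppfPrecoverage (Spec (CommRingCat.of k)) F 1) := by
  by_contra hinf
  rw [not_finite_iff_infinite] at hinf
  have := Fintype.ofFinite k
  let φ₀ : Gal(L₀/k) := FiniteField.frobeniusAlgEquivOfAlgebraic k L₀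
  have hfin : Finite (AddCommGroup.torsion (F.obj.obj (op (TL k L₀)) ⧸ (act F φ₀ - AddMonoidHom.id _).range)) := by
    have : Module.Finite ℤ (F.obj.obj (op (TL k L₀)) ⧸ (act F φ₀ - AddMonoidHom.id _).range) :=
      Module.Finite.of_surjective (QuotientAddGroup.mk' (act F φ₀ - AddMonoidHom.id _).range).toIntLinearMap
        (QuotientAddGroup.mk'_surjective _)
    exact finite_torsion
  let B := Nat.card (AddCommGroup.torsion (F.obj.obj (op (TL k L₀)) ⧸ (act F φ₀ - AddMonoidHom.id _).range))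
  let 𝓗 : CohT Scheme.fppfPrecoverage (Spec (CommRingCat.of k)) := K828.BigCoh.bigCoh _ _
  let e : Fin (B + 1) ↪ BigSite.H Scheme.fppfPrecoverage (Spec (CommRingCat.of k)) F 1 :=
    Fin.valEmbedding.trans (Infinite.natEmbedding _)
  let x : Fin (B + 1) → 𝓗.H F 1 (T0 k) := fun i => (hEquiv F 1).symm (e i)
  have hx : Function.Injective x := (hEquiv F 1).symm.injective.comp e.injective
  obtain ⟨R, hR, h⟩ := exists_common_cover 𝓗 F x Finset.univ
  obtain ⟨L₁, _, _, _, hL₁⟩ := exists_ext hR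
  obtain ⟨L, _, _, _, j, j₁, -⟩ := exists_common (k := k) L₀ L₁
  have hL : R (pL k L) := to_T0_ext (sgm j₁ ≫ pL k L₁) (pL k L) ▸ R.downward_closed hL₁ (sgm j₁)
  have hfinL : Finite L := Module.finite_of_finite k
  have hgal : IsGalois k L := inferInstance
  have hcard := card_kernel_le (FiniteField.frobeniusAlgEquivOfAlgebraic k L) (fun σ => by
    obtain ⟨i, hi⟩ := (FiniteField.bijective_frobeniusAlgEquivOfAlgebraic_pow k L).2 σ
    exact ⟨i.1, hi.symm⟩) 𝓗 F j φ₀ (fun y => by
      change j (y ^ Fintype.card k) = (j y) ^ Fintype.card k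
      rw [map_pow]) (hst L j) (rs_sgm_injective F j) x hx (fun i => h _ hL i (Finset.mem_univ i))
  rw [Nat.card_eq_fintype_card, Fintype.card_fin] at hcard
  exact absurd hcard (by simp [B])

end K146.FinStable
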